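import Mathlib
import Cfsg.Agent.TcData.JUC.I120.Blocks

set_option autoImplicit false
set_option Elab.async false
set_option maxRecDepth 100000
set_option linter.all false

namespace Cfsg.Agent.TcData.JUC.I120

open Cfsg.Spor Cfsg.Agent.Lib.TcFacts Cfsg.Agent.Lib.TcBits Cfsg.Agent.Lib.TcPres Cfsg.Agent.Lib.JUPresC Cfsg.Agent.Lib.JUPresC.C Cfsg.Agent.TcData.JUC

theorem hb : ∀ a, a ≤ 6 → base a = true →
    a < 6 ∧ PresentedGroup.mk RR (gL.getD a 1) ∈ HH := by
  intro a _ h
  simp [base, baseL] at h

theorem hmac : ∀ s ∈ macros, PresentedGroup.mk RR s ∈ HH := by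
  intro s hs
  simp [macros] at hs

theorem hRels : Rels = relL.map (fun r => encW enc r.toWord) ++
    (macroRels enc 6 macros ++ pairsOf enc gensL) := by decide +kernel

theorem hw : ∀ k, k < 17 →
    rotOK Rels 6 (decW 4 15 (10 + 1) (wd k)) (hint k) = true := by
  decide +kernel

theorem h1alive : aliveB ent 6 128 1 = true := by decide +kernel

theorem index_le' : HH.index ≠ 0 ∧ HH.index ≤ 120 :=
  index_le HH gL macros relL gensL enc (hℓ macros) hL hrel hmac ent pa wd side base
    6 127 7 12 255 4 15 8 10 31 17 128 1024 120 hlen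
    (by norm_num) hb Rels hRels hint hw (by norm_num) c0 h1alive

end Cfsg.Agent.TcData.JUC.I120
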